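import Mathlib.RingTheory.MvPowerSeries.Trunc
import Mathlib.RingTheory.DiscreteValuationRing.Basic
import Mathlib.RingTheory.MvPowerSeries.Basic
import Mathlib.Algebra.Algebra.Subalgebra.Lattice
import Mathlib.LinearAlgebra.Prod
import Mathlib.Tactic

/-!
# The local ring of the singular point of a Weierstrass equation of type II in characteristic two
-/

set_option autoImplicit false

universe u

namespace Groth.Agent.H28WeierAlg

variable {R : Type u} [CommRing R]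

/-- The four coordinates with respect to `1, x, y, xy`. -/
abbrev Q (R : Type u) : Type u := R × R × R × R

variable (t a₁ a₆ k : R)

/-- Multiplication by `x`. -/
def opX : Module.End R (Q R) where
  toFun := fun ⟨α, β, γ, δ⟩ => (t * a₁ * a₆ * δ, α, t * a₁ * β, γ + t * a₁ * k * δ)
  map_add' := fun ⟨_, _, _, _⟩ ⟨_, _, _, _⟩ => by simp only [Prod.mk_add_mk]; ext <;> simp only <;> ring
  map_smul' := fun c ⟨_, _, _, _⟩ => by
    simp only [Prod.smul_mk, smul_eq_mul, RingHom.id_apply]; ext <;> simp only <;> ring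

/-- Multiplication by `y`. -/
def opY : Module.End R (Q R) where
  toFun := fun ⟨α, β, γ, δ⟩ => (a₆ * γ + k * t * a₁ * a₆ * δ, a₆ * δ, α, β + k * γ + k * k * t * a₁ * δ)
  map_add' := fun ⟨_, _, _, _⟩ ⟨_, _, _, _⟩ => by simp only [Prod.mk_add_mk]; ext <;> simp only <;> ring
  map_smul' := fun c ⟨_, _, _, _⟩ => by
    simp only [Prod.smul_mk, smul_eq_mul, RingHom.id_apply]; ext <;> simp only <;> ring

@[simp] theorem opX_apply (α β γ δ : R) :
    opX t a₁ a₆ k (α, β, γ, δ) = (t * a₁ * a₆ * δ, α, t * a₁ * β, γ + t * a₁ * k * δ) := rfl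

@[simp] theorem opY_apply (α β γ δ : R) :
    opY t a₁ a₆ k (α, β, γ, δ) =
      (a₆ * γ + k * t * a₁ * a₆ * δ, a₆ * δ, α, β + k * γ + k * k * t * a₁ * δ) := rfl

theorem op_comm : opX t a₁ a₆ k * opY t a₁ a₆ k = opY t a₁ a₆ k * opX t a₁ a₆ k := by
  refine LinearMap.ext fun ⟨α, β, γ, δ⟩ => ?_
  simp only [Module.End.mul_apply, opX_apply, opY_apply]
  ext <;> simp only <;> ring

theorem ops_comm : ∀ a ∈ ({opX t a₁ a₆ k, opY t a₁ a₆ k} : Set (Module.End R (Q R))),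
    ∀ b ∈ ({opX t a₁ a₆ k, opY t a₁ a₆ k} : Set (Module.End R (Q R))), a * b = b * a := by
  rintro a (rfl | rfl) b (rfl | rfl)
  · rfl
  · exact op_comm t a₁ a₆ k
  · exact (op_comm t a₁ a₆ k).symm
  · rfl

/-- The action of polynomials. -/
noncomputable def act : MvPolynomial (Fin 2) R →ₐ[R] Module.End R (Q R) :=
  letI := Algebra.adjoinCommRingOfComm R (ops_comm t a₁ a₆ k)
  (Algebra.adjoin R {opX t a₁ a₆ k, opY t a₁ a₆ k}).val.comp
    (MvPolynomial.aeval ![⟨_, Algebra.subset_adjoin (Set.mem_insert _ _)⟩,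
      ⟨_, Algebra.subset_adjoin (Set.mem_insert_of_mem _ rfl)⟩])

@[simp] theorem act_X0 : act t a₁ a₆ k (MvPolynomial.X 0) = opX t a₁ a₆ k := by simp [act]

@[simp] theorem act_X1 : act t a₁ a₆ k (MvPolynomial.X 1) = opY t a₁ a₆ k := by simp [act]

/-- The image of `1`. -/
def e : Q R := (1, 0, 0, 0)

variable (ϖ : R) (v : ℕ)

/-- The quadruples divisible by `ϖ^(v+1), ϖ^v, ϖ^v, ϖ^v`. -/
def box : Submodule R (Q R) :=
  Submodule.prod (Ideal.span {ϖ ^ (v + 1)})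
    (Submodule.prod (Ideal.span {ϖ ^ v}) (Submodule.prod (Ideal.span {ϖ ^ v}) (Ideal.span {ϖ ^ v})))

theorem mem_box {α β γ δ : R} : (α, β, γ, δ) ∈ box ϖ v ↔
    ϖ ^ (v + 1) ∣ α ∧ ϖ ^ v ∣ β ∧ ϖ ^ v ∣ γ ∧ ϖ ^ v ∣ δ := by
  simp only [box, Submodule.mem_prod, Ideal.mem_span_singleton]

variable {t a₁ a₆ k ϖ v}

theorem box_stable (ha₆ : ϖ ∣ a₆) (q : MvPolynomial (Fin 2) R) :
    ∀ w ∈ box ϖ v, act t a₁ a₆ k q w ∈ box ϖ v := by
  induction q using MvPolynomial.induction_on with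
  | C c =>
    intro w hw
    rw [show MvPolynomial.C c = algebraMap R (MvPolynomial (Fin 2) R) c from rfl, AlgHom.commutes]
    exact (box ϖ v).smul_mem c hw
  | add p q hp hq =>
    intro w hw
    rw [map_add, LinearMap.add_apply]
    exact add_mem (hp w hw) (hq w hw)
  | mul_X p i hp =>
    intro w hw
    rw [map_mul, Module.End.mul_apply]
    refine hp _ ?_
    obtain ⟨α, β, γ, δ⟩ := w
    obtain ⟨hα, hβ, hγ, hδ⟩ := (mem_box ϖ v).1 hw
    have hα' : ϖ ^ v ∣ α := (pow_dvd_pow ϖ (Nat.le_succ v)).trans hα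
    have key : ∀ {c : R}, ϖ ^ v ∣ c → ϖ ^ (v + 1) ∣ a₆ * c := fun {c} hc => by
      rw [pow_succ']; exact mul_dvd_mul ha₆ hc
    fin_cases i
    · show act t a₁ a₆ k (MvPolynomial.X 0) (α, β, γ, δ) ∈ box ϖ v
      rw [act_X0, opX_apply, mem_box]
      exact ⟨by rw [mul_assoc (t * a₁)]; exact dvd_mul_of_dvd_right (key hδ) _, hα',
        dvd_mul_of_dvd_right hβ _, dvd_add hγ (dvd_mul_of_dvd_right hδ _)⟩
    · show act t a₁ a₆ k (MvPolynomial.X 1) (α, β, γ, δ) ∈ box ϖ v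
      rw [act_X1, opY_apply, mem_box]
      exact ⟨dvd_add (key hγ) (by rw [mul_assoc (k * t * a₁)]; exact dvd_mul_of_dvd_right (key hδ) _),
        dvd_mul_of_dvd_right hδ _, hα',
        dvd_add (dvd_add hβ (dvd_mul_of_dvd_right hγ _)) (dvd_mul_of_dvd_right hδ _)⟩

/-- The even powers of `y`. -/
theorem act_y_even (ha₆ : ϖ ∣ a₆) (hk : ϖ ∣ k) (i : ℕ) :
    ∃ α β γ δ : R, act t a₁ a₆ k (MvPolynomial.X 1 ^ (2 * i)) e = (α, β, γ, δ) ∧
      ϖ ^ (i + 1) ∣ α - a₆ ^ i ∧ ϖ ^ i ∣ β ∧ ϖ ^ i ∣ γ ∧ ϖ ^ i ∣ δ := by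
  induction i with
  | zero => exact ⟨1, 0, 0, 0, by simp [e], by simp, by simp, by simp, by simp⟩
  | succ i ih =>
    obtain ⟨α, β, γ, δ, he, hα, hβ, hγ, hδ⟩ := ih
    rw [show 2 * (i + 1) = 2 + 2 * i from by ring, pow_add, map_mul, Module.End.mul_apply, he, pow_two, map_mul,
      Module.End.mul_apply, act_X1, opY_apply, opY_apply]
    obtain ⟨c, hc⟩ := ha₆
    obtain ⟨m, hm⟩ := hk
    have hα0 : ϖ ^ i ∣ α := by
      have h1 : ϖ ^ i ∣ α - a₆ ^ i := (pow_dvd_pow ϖ (Nat.le_succ i)).trans hα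
      have h2 : ϖ ^ i ∣ a₆ ^ i := pow_dvd_pow_of_dvd ⟨c, hc⟩ i
      simpa using dvd_add h1 h2
    obtain ⟨α', hα'⟩ := hα0
    obtain ⟨β', hβ'⟩ := hβ
    obtain ⟨γ', hγ'⟩ := hγ
    obtain ⟨δ', hδ'⟩ := hδ
    obtain ⟨ε, hε⟩ := hα
    refine ⟨_, _, _, _, rfl, ?_, ?_, ?_, ?_⟩
    · refine ⟨c * ε + m * t * a₁ * c * (β' + k * γ' + k * k * t * a₁ * δ'), ?_⟩
      rw [pow_succ a₆ i, hβ', hγ', hδ']
      linear_combination (a₆) * hε + (ϖ ^ (i + 1) * ε) * hc +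
        (t * a₁ * a₆ * (ϖ ^ i * β' + k * (ϖ ^ i * γ') + k * k * t * a₁ * (ϖ ^ i * δ'))) * hm +
        (ϖ * m * t * a₁ * ϖ ^ i * (β' + k * γ' + k * k * t * a₁ * δ')) * hc
    · refine ⟨c * (β' + k * γ' + k * k * t * a₁ * δ'), ?_⟩
      rw [hβ', hγ', hδ', hc]; ring
    · refine ⟨c * γ' + m * t * a₁ * a₆ * δ', ?_⟩
      rw [hγ', hδ', pow_succ]
      linear_combination (ϖ ^ i * γ') * hc + (ϖ ^ i * δ' * t * a₁ * a₆) * hm
    · refine ⟨c * δ' + m * α' + k * m * t * a₁ * (β' + k * γ' + k * k * t * a₁ * δ'), ?_⟩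
      rw [hα', hβ', hγ', hδ', pow_succ]
      linear_combination (ϖ ^ i * δ') * hc + (ϖ ^ i * α' + k * t * a₁ * (ϖ ^ i * β' + k * (ϖ ^ i * γ') + k * k * t * a₁ * (ϖ ^ i * δ'))) * hm

theorem dvd_of_pow_dvd_mul_pow [IsDomain R] (hϖ : ϖ ≠ 0) {w : R} (hw : IsUnit w) {n : ℕ} {c : R}
    (h : ϖ ^ (n + 1) ∣ c * (w * ϖ) ^ n) : ϖ ∣ c := by
  rw [mul_pow, pow_succ', ← mul_assoc] at h
  exact (hw.pow n).dvd_mul_right.1 ((mul_dvd_mul_iff_right (pow_ne_zero n hϖ)).1 h)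

theorem box_y_high (ha₆ : ϖ ∣ a₆) (hk : ϖ ∣ k) :
    act t a₁ a₆ k (MvPolynomial.X 1 ^ (2 * v + 1)) e ∈ box ϖ v ∧
      act t a₁ a₆ k (MvPolynomial.X 0 * MvPolynomial.X 1 ^ (2 * v)) e ∈ box ϖ v := by
  obtain ⟨α, β, γ, δ, he, hα, hβ, hγ, hδ⟩ := act_y_even (t := t) (a₁ := a₁) ha₆ hk v
  have hα0 : ϖ ^ v ∣ α := by
    have := dvd_add ((pow_dvd_pow ϖ (Nat.le_succ v)).trans hα) (pow_dvd_pow_of_dvd ha₆ v)
    simpa using this
  have key : ∀ {c : R}, ϖ ^ v ∣ c → ϖ ^ (v + 1) ∣ a₆ * c := fun {c} hc => by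
    rw [pow_succ']; exact mul_dvd_mul ha₆ hc
  constructor
  · rw [pow_succ', map_mul, Module.End.mul_apply, he, act_X1, opY_apply, mem_box]
    exact ⟨dvd_add (key hγ) (by rw [mul_assoc (k * t * a₁)]; exact dvd_mul_of_dvd_right (key hδ) _),
      dvd_mul_of_dvd_right hδ _, hα0,
      dvd_add (dvd_add hβ (dvd_mul_of_dvd_right hγ _)) (dvd_mul_of_dvd_right hδ _)⟩
  · rw [map_mul, Module.End.mul_apply, he, act_X0, opX_apply, mem_box]
    exact ⟨by rw [mul_assoc (t * a₁)]; exact dvd_mul_of_dvd_right (key hδ) _, hα0,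
      dvd_mul_of_dvd_right hβ _, dvd_add hγ (dvd_mul_of_dvd_right hδ _)⟩

/-- The detecting ideal of power series. -/
noncomputable def detect (ha₁ : ϖ ^ v ∣ a₁) (ha₆ : ϖ ∣ a₆) (hk : ϖ ∣ k) : Ideal (MvPowerSeries (Fin 2) R) where
  carrier := {F | act t a₁ a₆ k (MvPowerSeries.trunc' R (Finsupp.equivFunOnFinite.symm ![2, 2 * v + 1]) F) e ∈ box ϖ v}
  add_mem' {F G} hF hG := by
    show act t a₁ a₆ k _ e ∈ box ϖ v
    rw [map_add, map_add, LinearMap.add_apply]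
    exact add_mem hF hG
  zero_mem' := by
    show act t a₁ a₆ k _ e ∈ box ϖ v
    rw [map_zero, map_zero]
    exact zero_mem _
  smul_mem' G F hF := by
    classical
    let n : Fin 2 →₀ ℕ := Finsupp.equivFunOnFinite.symm ![2, 2 * v + 1]
    show act t a₁ a₆ k (MvPowerSeries.trunc' R n (G * F)) e ∈ box ϖ v
    let D := MvPowerSeries.trunc' R n (G * F) - MvPowerSeries.trunc' R n G * MvPowerSeries.trunc' R n F
    rw [show MvPowerSeries.trunc' R n (G * F) = D + MvPowerSeries.trunc' R n G * MvPowerSeries.trunc' R n F by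
      simp [D], map_add, map_mul, LinearMap.add_apply, Module.End.mul_apply]
    refine add_mem ?_ (box_stable ha₆ _ _ hF)
    have hD : ∀ m : Fin 2 →₀ ℕ, m ≤ n → D.coeff m = 0 := fun m hm => by
      simp only [D, MvPolynomial.coeff_sub, MvPowerSeries.coeff_trunc', if_pos hm,
        MvPowerSeries.coeff_trunc'_mul_trunc'_eq_coeff_mul n G F hm, sub_self]
    rw [D.as_sum, map_sum, LinearMap.sum_apply]
    refine Submodule.sum_mem _ fun m hm => ?_
    have hmn : ¬ m ≤ n := fun h => (MvPolynomial.mem_support_iff.1 hm) (hD m h)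
    rw [MvPolynomial.monomial_eq, Finsupp.prod_fintype _ _ (fun _ => pow_zero _), Fin.prod_univ_two, map_mul,
      show MvPolynomial.C (D.coeff m) = algebraMap R (MvPolynomial (Fin 2) R) (D.coeff m) from rfl, AlgHom.commutes,
      Module.End.mul_apply]
    refine (box ϖ v).smul_mem _ ?_
    obtain ⟨hy1, -⟩ := box_y_high (t := t) (a₁ := a₁) (v := v) ha₆ hk
    by_cases h0 : m 0 ≤ 2
    · have h1 : 2 * v + 1 ≤ m 1 := by
        by_contra h1
        exact hmn fun i => by fin_cases i <;> simp [n] <;> omega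
      obtain ⟨j, hj⟩ := Nat.exists_eq_add_of_le' h1
      rw [hj, pow_add, ← mul_assoc, map_mul, Module.End.mul_apply]
      exact box_stable ha₆ _ _ hy1
    · obtain ⟨j, hj⟩ := Nat.exists_eq_add_of_le' (show 2 ≤ m 0 by omega)
      rw [hj, pow_add, mul_right_comm, map_mul, Module.End.mul_apply]
      refine box_stable ha₆ _ _ ?_
      rw [pow_two, map_mul, Module.End.mul_apply, act_X0, e, opX_apply, opX_apply, mem_box]
      simp only [mul_zero, add_zero, dvd_zero, mul_one, zero_add, and_true, true_and]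
      exact dvd_mul_of_dvd_right ha₁ _

/-- Membership in the detecting ideal for a polynomial with small exponents. -/
theorem trunc'_coe (n : Fin 2 →₀ ℕ) (p : MvPolynomial (Fin 2) R) (hp : ∀ m ∈ p.support, m ≤ n) :
    MvPowerSeries.trunc' R n (p : MvPowerSeries (Fin 2) R) = p := by
  classical
  refine MvPolynomial.ext _ _ fun m => ?_
  rw [MvPowerSeries.coeff_trunc']
  split_ifs with h
  · exact MvPolynomial.coeff_coe p m
  · exact (MvPolynomial.notMem_support_iff.1 fun hm => h (hp m hm)).symm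

theorem trunc'_mono (n : Fin 2 →₀ ℕ) (c : R) (i j : ℕ) (hi : i ≤ n 0) (hj : j ≤ n 1) :
    MvPowerSeries.trunc' R n (MvPowerSeries.C c * (MvPowerSeries.X 0 ^ i * MvPowerSeries.X 1 ^ j)) =
      MvPolynomial.C c * (MvPolynomial.X 0 ^ i * MvPolynomial.X 1 ^ j) := by
  classical
  have h : (MvPowerSeries.C c * (MvPowerSeries.X 0 ^ i * MvPowerSeries.X 1 ^ j) : MvPowerSeries (Fin 2) R) =
      ((MvPolynomial.C c * (MvPolynomial.X 0 ^ i * MvPolynomial.X 1 ^ j) : MvPolynomial (Fin 2) R) :) := by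
    simp
  rw [h]
  refine trunc'_coe n _ fun m hm => ?_
  rw [MvPolynomial.X_pow_eq_monomial, MvPolynomial.X_pow_eq_monomial, MvPolynomial.monomial_mul,
    MvPolynomial.C_mul_monomial] at hm
  rw [Finset.mem_singleton.1 (MvPolynomial.support_monomial_subset hm)]
  intro l
  fin_cases l <;> simp [hi, hj]

set_option maxHeartbeats 2000000 in
open MvPowerSeries in
theorem typeII [IsDomain R] {t ϖ a₁ a₆ c : R} {v : ℕ} (hv : 1 ≤ v) (hϖ : ϖ ≠ 0) {u₁ u₆ : Rˣ}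
    (ha₁ : a₁ = u₁ * ϖ ^ v) (ha₆ : a₆ = u₆ * ϖ) (h2 : (2 : R) = c * ϖ ^ v) (ht : t * 3 = 1)
    (I : Ideal (MvPowerSeries (Fin 2) R))
    (hI : I = Ideal.span {(X 1 : MvPowerSeries (Fin 2) R) ^ 2 + C a₁ * (X 0 * X 1) - X 0 ^ 3 - C a₆,
      2 * X 1 + C a₁ * X 0, 3 * X 0 ^ 2 - C a₁ * X 1}) :
    (∀ i : ℕ, Ideal.span {C ϖ, X 0, X 1} ^ (i + 1) ⊔ I =
      Ideal.span {(X 1 : MvPowerSeries (Fin 2) R) ^ (i + 1), X 0 * X 1 ^ i} ⊔ I) ∧
      ∀ a b : R, C a * X 1 ^ (2 * v) + C b * (X 0 * X 1 ^ (2 * v - 1)) ∈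
        Ideal.span {C ϖ, X 0, X 1} ^ (2 * v + 1) ⊔ I → ϖ ∣ a ∧ ϖ ∣ b := by
  classical
  set x : MvPowerSeries (Fin 2) R := X 0
  set y : MvPowerSeries (Fin 2) R := X 1
  have hf1 : y ^ 2 + C a₁ * (x * y) - x ^ 3 - C a₆ ∈ I := hI ▸ Ideal.subset_span (Set.mem_insert _ _)
  have hf3 : 3 * x ^ 2 - C a₁ * y ∈ I := hI ▸ Ideal.subset_span (by simp)
  have htC : C t * 3 = (1 : MvPowerSeries (Fin 2) R) := by
    rw [show (3 : MvPowerSeries (Fin 2) R) = C 3 from (map_ofNat C 3).symm, ← map_mul, ht, map_one]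
  have hx2 : x ^ 2 - C (t * a₁) * y ∈ I := by
    have := I.mul_mem_left (C t) hf3
    rwa [show C t * (3 * x ^ 2 - C a₁ * y) = x ^ 2 - C (t * a₁) * y by
      rw [map_mul]; linear_combination (x ^ 2) * htC] at this
  have hu : C (↑u₆⁻¹ : R) * C (↑u₆ : R) = (1 : MvPowerSeries (Fin 2) R) := by
    rw [← map_mul, Units.inv_mul, map_one]
  have hϖI : C ϖ - C (↑u₆⁻¹ : R) * (y * (y + C (a₁ * (1 - t)) * x)) ∈ I := by
    have h1 : y ^ 2 + C a₁ * (x * y) - C (t * a₁) * (x * y) - C a₆ ∈ I := by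
      rw [show y ^ 2 + C a₁ * (x * y) - C (t * a₁) * (x * y) - C a₆ =
        (y ^ 2 + C a₁ * (x * y) - x ^ 3 - C a₆) + x * (x ^ 2 - C (t * a₁) * y) by ring]
      exact add_mem hf1 (I.mul_mem_left _ hx2)
    have h3 := I.mul_mem_left (-C (↑u₆⁻¹ : R)) h1
    rwa [show -C (↑u₆⁻¹ : R) * (y ^ 2 + C a₁ * (x * y) - C (t * a₁) * (x * y) - C a₆) =
      C ϖ - C (↑u₆⁻¹ : R) * (y * (y + C (a₁ * (1 - t)) * x)) by
      rw [ha₆, map_mul, map_mul, map_mul, map_sub, map_one]; linear_combination (C ϖ) * hu] at h3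
  let K : ℕ → Ideal (MvPowerSeries (Fin 2) R) := fun i => Ideal.span {y ^ (i + 1), x * y ^ i} ⊔ I
  have hKy : ∀ i (a : MvPowerSeries (Fin 2) R), a * y ^ (i + 1) ∈ K i := fun i a =>
    Ideal.mul_mem_left _ a (Ideal.mem_sup_left (Ideal.subset_span (Set.mem_insert _ _)))
  have hKxy : ∀ i (a : MvPowerSeries (Fin 2) R), a * (x * y ^ i) ∈ K i := fun i a =>
    Ideal.mul_mem_left _ a (Ideal.mem_sup_left (Ideal.subset_span (Set.mem_insert_of_mem _ rfl)))
  have hKI : ∀ i {z : MvPowerSeries (Fin 2) R}, z ∈ I → z ∈ K i := fun i z hz => Ideal.mem_sup_right hz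
  obtain ⟨v', rfl⟩ : ∃ v', v = v' + 1 := ⟨v - 1, by omega⟩
  have hstep : ∀ i, Ideal.span {C ϖ, x, y} * K i ≤ K (i + 1) := by
    intro i
    rw [Ideal.mul_sup, Ideal.span_mul_span']
    refine sup_le (Ideal.span_le.2 ?_) (Ideal.mul_le_right.trans le_sup_right)
    rintro _ ⟨m, (rfl | rfl | rfl), g, (rfl | rfl), rfl⟩
    · show C ϖ * y ^ (i + 1) ∈ K (i + 1)
      rw [show C ϖ * y ^ (i + 1) = y ^ (i + 1) * (C ϖ - C (↑u₆⁻¹ : R) * (y * (y + C (a₁ * (1 - t)) * x))) +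
        ((C (↑u₆⁻¹ : R) * y) * y ^ (i + 1 + 1) + (C (↑u₆⁻¹ : R) * C (a₁ * (1 - t)) * y) * (x * y ^ (i + 1))) by ring]
      exact add_mem (hKI _ (I.mul_mem_left _ hϖI)) (add_mem (hKy _ _) (hKxy _ _))
    · show C ϖ * (x * y ^ i) ∈ K (i + 1)
      rw [show C ϖ * (x * y ^ i) = (x * y ^ i) * (C ϖ - C (↑u₆⁻¹ : R) * (y * (y + C (a₁ * (1 - t)) * x))) +
        (C (↑u₆⁻¹ : R) * (y + C (a₁ * (1 - t)) * x)) * (x * y ^ (i + 1)) by ring]
      exact add_mem (hKI _ (I.mul_mem_left _ hϖI)) (hKxy _ _)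
    · show x * y ^ (i + 1) ∈ K (i + 1)
      simpa using hKxy (i + 1) 1
    · show x * (x * y ^ i) ∈ K (i + 1)
      let w : MvPowerSeries (Fin 2) R := C (t * u₁ * ϖ ^ v')
      rw [show x * (x * y ^ i) = y ^ i * (x ^ 2 - C (t * a₁) * y) +
        (w * y ^ (i + 1)) * (C ϖ - C (↑u₆⁻¹ : R) * (y * (y + C (a₁ * (1 - t)) * x))) +
          ((w * C (↑u₆⁻¹ : R) * y) * y ^ (i + 1 + 1) +
            (w * C (↑u₆⁻¹ : R) * C (a₁ * (1 - t)) * y) * (x * y ^ (i + 1))) by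
        have hw : C (t * a₁) = w * C ϖ := by rw [← map_mul, ha₁, pow_succ]; congr 1; ring
        rw [hw]; ring]
      exact add_mem (add_mem (hKI _ (I.mul_mem_left _ hx2)) (hKI _ (I.mul_mem_left _ hϖI)))
        (add_mem (hKy _ _) (hKxy _ _))
    · show y * y ^ (i + 1) ∈ K (i + 1)
      rw [← pow_succ']; simpa using hKy (i + 1) 1
    · show y * (x * y ^ i) ∈ K (i + 1)
      rw [show y * (x * y ^ i) = x * y ^ (i + 1) by ring]; simpa using hKxy (i + 1) 1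
  have hle : ∀ i, Ideal.span {C ϖ, x, y} ^ (i + 1) ≤ K i := by
    intro i
    induction i with
    | zero =>
      rw [pow_one, Ideal.span_le]
      rintro _ (rfl | rfl | rfl)
      · show C ϖ ∈ K 0
        rw [show C ϖ = (C ϖ - C (↑u₆⁻¹ : R) * (y * (y + C (a₁ * (1 - t)) * x))) +
          (C (↑u₆⁻¹ : R) * (y + C (a₁ * (1 - t)) * x)) * y ^ (0 + 1) by ring]
        exact add_mem (hKI _ hϖI) (hKy _ _)
      · simpa using hKxy 0 1
      · simpa using hKy 0 1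
    | succ i ih => rw [pow_succ' _ (i + 1)]; exact (Ideal.mul_mono_right ih).trans (hstep i)
  refine ⟨fun i => le_antisymm (sup_le (hle i) le_sup_right) (sup_le (Ideal.span_le.2 ?_) le_sup_right), ?_⟩
  · rintro _ (rfl | rfl)
    · exact Ideal.mem_sup_left (Ideal.pow_mem_pow (Ideal.subset_span (by simp)) _)
    · refine Ideal.mem_sup_left ?_
      rw [pow_succ']
      exact Ideal.mul_mem_mul (Ideal.subset_span (by simp)) (Ideal.pow_mem_pow (Ideal.subset_span (by simp)) _)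
  intro a b hab
  set v := v' + 1
  let k := a₁ * (t - 1)
  have hk : ϖ ∣ k := dvd_mul_of_dvd_left (by rw [ha₁]; exact dvd_mul_of_dvd_right (dvd_pow_self _ (Nat.succ_ne_zero _)) _) _
  have ha₁' : ϖ ^ v ∣ a₁ := ⟨u₁, by rw [ha₁]; ring⟩
  have ha₆' : ϖ ∣ a₆ := ⟨u₆, by rw [ha₆]; ring⟩
  let J := detect (t := t) (v := v) ha₁' ha₆' hk
  let n : Fin 2 →₀ ℕ := Finsupp.equivFunOnFinite.symm ![2, 2 * v + 1]
  have hn0 : n 0 = 2 := rfl
  have hn1 : n 1 = 2 * v + 1 := rfl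
  have tm : ∀ (c : R) (i j : ℕ), i ≤ 2 → j ≤ 2 * v + 1 →
      act t a₁ a₆ k (trunc' R n (C c * (x ^ i * y ^ j))) e = c • act t a₁ a₆ k (MvPolynomial.X 0 ^ i * MvPolynomial.X 1 ^ j) e := by
    intro c i j hi hj
    rw [trunc'_mono n c i j (hi.trans_eq hn0.symm) (hj.trans_eq hn1.symm), map_mul,
      show MvPolynomial.C c = algebraMap R (MvPolynomial (Fin 2) R) c from rfl, AlgHom.commutes, Module.End.mul_apply]
    rfl
  obtain ⟨hy1, hxy1⟩ := box_y_high (t := t) (a₁ := a₁) (v := v) ha₆' hk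
  have hIJ : Ideal.span {C ϖ, x, y} ^ (2 * v + 1) ⊔ I ≤ J := by
    refine sup_le ((hle (2 * v)).trans (sup_le (Ideal.span_le.2 ?_) ?_)) ?_
    · rintro _ (rfl | rfl)
      · show act t a₁ a₆ k (trunc' R n (y ^ (2 * v + 1))) e ∈ box ϖ v
        have := tm 1 0 (2 * v + 1) (by omega) le_rfl
        simp only [map_one, one_mul, pow_zero, one_smul] at this
        rw [this]; exact hy1
      · show act t a₁ a₆ k (trunc' R n (x * y ^ (2 * v))) e ∈ box ϖ v
        have := tm 1 1 (2 * v) (by omega) (by omega)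
        simp only [map_one, one_mul, pow_one, one_smul] at this
        rw [this]; exact hxy1
    all_goals
      rw [hI, Ideal.span_le]
      rintro _ (rfl | rfl | rfl)
      · show act t a₁ a₆ k (trunc' R n (y ^ 2 + C a₁ * (x * y) - x ^ 3 - C a₆)) e ∈ box ϖ v
        have hx3 : trunc' R n (x ^ 3) = 0 := by
          refine MvPolynomial.ext _ _ fun m => ?_
          rw [coeff_trunc', MvPolynomial.coeff_zero]
          split_ifs with h
          · rw [coeff_X_pow, if_neg fun e => ?_]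
            have := h 0
            simp [e, hn0] at this
          · rfl
        rw [show y ^ 2 + C a₁ * (x * y) - x ^ 3 - C a₆ =
          C 1 * (x ^ 0 * y ^ 2) + C a₁ * (x ^ 1 * y ^ 1) - x ^ 3 - C a₆ * (x ^ 0 * y ^ 0) by simp]
        simp only [map_sub, map_add, LinearMap.sub_apply, LinearMap.add_apply, hx3, map_zero, LinearMap.zero_apply]
        rw [tm 1 0 2 (by omega) (by omega), tm a₁ 1 1 (by omega) (by omega), tm a₆ 0 0 (by omega) (by omega)]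
        simp only [pow_zero, pow_one, one_mul, pow_two, map_mul, map_one, Module.End.mul_apply, Module.End.one_apply,
          act_X0, act_X1, e, opX_apply, opY_apply, Prod.smul_mk, smul_eq_mul, Prod.mk_add_mk, Prod.mk_sub_mk, sub_zero,
          mul_zero, mul_one, add_zero, zero_add]
        rw [mem_box]
        refine ⟨by simp, by simp, by simp, ?_⟩
        exact dvd_add (dvd_mul_of_dvd_left ha₁' _) ha₁'
      · show act t a₁ a₆ k (trunc' R n (2 * y + C a₁ * x)) e ∈ box ϖ v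
        rw [show (2 : MvPowerSeries (Fin 2) R) * y + C a₁ * x = C 2 * (x ^ 0 * y ^ 1) + C a₁ * (x ^ 1 * y ^ 0) by
          simp [map_ofNat]]
        rw [map_add, map_add, LinearMap.add_apply, tm 2 0 1 (by omega) (by omega), tm a₁ 1 0 (by omega) (by omega)]
        simp only [pow_zero, pow_one, one_mul, mul_one, act_X0, act_X1, e, opX_apply, opY_apply, Prod.smul_mk,
          smul_eq_mul, Prod.mk_add_mk, mul_zero, add_zero, zero_add]
        rw [mem_box]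
        exact ⟨dvd_zero _, ha₁', ⟨c, by rw [h2]; ring⟩, dvd_zero _⟩
      · show act t a₁ a₆ k (trunc' R n (3 * x ^ 2 - C a₁ * y)) e ∈ box ϖ v
        rw [show (3 : MvPowerSeries (Fin 2) R) * x ^ 2 - C a₁ * y = C 3 * (x ^ 2 * y ^ 0) - C a₁ * (x ^ 0 * y ^ 1) by
          simp [map_ofNat]]
        rw [map_sub, map_sub, LinearMap.sub_apply, tm 3 2 0 le_rfl (by omega), tm a₁ 0 1 (by omega) (by omega)]
        simp only [pow_zero, pow_one, pow_two, one_mul, mul_one, map_mul, Module.End.mul_apply, act_X0, act_X1, e,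
          opX_apply, opY_apply, Prod.smul_mk, smul_eq_mul, Prod.mk_sub_mk, mul_zero, add_zero, zero_add, sub_zero]
        rw [mem_box]
        exact ⟨dvd_zero _, dvd_zero _, dvd_sub (dvd_mul_of_dvd_right (dvd_mul_of_dvd_right ha₁' _) _) ha₁', dvd_zero _⟩
  have h0 : act t a₁ a₆ k (trunc' R n (C a * y ^ (2 * v) + C b * (x * y ^ (2 * v - 1)))) e ∈ box ϖ v := hIJ hab
  rw [show C a * y ^ (2 * v) + C b * (x * y ^ (2 * v - 1)) =
    C a * (x ^ 0 * y ^ (2 * v)) + C b * (x ^ 1 * y ^ (2 * v - 1)) by simp, map_add, map_add, LinearMap.add_apply,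
    tm a 0 (2 * v) (by omega) (by omega), tm b 1 (2 * v - 1) (by omega) (by omega)] at h0
  obtain ⟨α, β, γ, δ, he, hα, hβ, hγ, hδ⟩ := act_y_even (t := t) (a₁ := a₁) ha₆' hk v
  obtain ⟨α₁, β₁, γ₁, δ₁, he₁, hα₁, hβ₁, hγ₁, hδ₁⟩ := act_y_even (t := t) (a₁ := a₁) ha₆' hk v'
  simp only [pow_zero, one_mul, pow_one, show 2 * v - 1 = 1 + 2 * v' by omega, pow_add, map_mul,
    Module.End.mul_apply, he, he₁, act_X0, act_X1, opX_apply, opY_apply, Prod.smul_mk, smul_eq_mul,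
    Prod.mk_add_mk, mem_box] at h0
  obtain ⟨h1, -, -, h4⟩ := h0
  have key : ∀ {z : R}, ϖ ^ v' ∣ z → ϖ ^ (v + 1) ∣ a₁ * (a₆ * z) := fun {z} hz => by
    refine (pow_dvd_pow ϖ (show v + 1 ≤ v + (1 + v') by omega)).trans ?_
    have := mul_dvd_mul ha₁' (mul_dvd_mul ha₆' hz)
    rwa [← pow_succ', ← pow_add, add_comm v' 1] at this
  constructor
  · refine dvd_of_pow_dvd_mul_pow (n := v) hϖ u₆.isUnit ?_
    rw [← ha₆]
    have hb1 : ϖ ^ (v + 1) ∣ b * (t * a₁ * a₆ * (β₁ + k * γ₁ + k * k * t * a₁ * δ₁)) := by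
      rw [show b * (t * a₁ * a₆ * (β₁ + k * γ₁ + k * k * t * a₁ * δ₁)) =
        (b * t) * (a₁ * (a₆ * (β₁ + k * γ₁ + k * k * t * a₁ * δ₁))) by ring]
      exact dvd_mul_of_dvd_right (key (dvd_add (dvd_add hβ₁ (dvd_mul_of_dvd_right hγ₁ _)) (dvd_mul_of_dvd_right hδ₁ _))) _
    have h5 : ϖ ^ (v + 1) ∣ a * α := (dvd_add_left hb1).1 (by rw [pow_succ]; exact h1)
    have h6 := dvd_sub h5 (dvd_mul_of_dvd_right hα a)
    rwa [show a * α - a * (α - a₆ ^ v) = a * a₆ ^ v by ring] at h6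
  · refine dvd_of_pow_dvd_mul_pow (n := v') hϖ u₆.isUnit ?_
    rw [← ha₆]
    have h5 : ϖ ^ v ∣ b * (α₁ + t * a₁ * k * (β₁ + k * γ₁ + k * k * t * a₁ * δ₁)) :=
      (dvd_add_right (dvd_mul_of_dvd_right hδ a)).1 h4
    have h6 : ϖ ^ v ∣ b * (t * a₁ * k * (β₁ + k * γ₁ + k * k * t * a₁ * δ₁)) := by
      rw [show b * (t * a₁ * k * (β₁ + k * γ₁ + k * k * t * a₁ * δ₁)) =
        a₁ * (b * t * k * (β₁ + k * γ₁ + k * k * t * a₁ * δ₁)) by ring]
      exact dvd_mul_of_dvd_left ha₁' _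
    rw [mul_add] at h5
    have h7 := dvd_sub ((dvd_add_left h6).1 h5) (dvd_mul_of_dvd_right hα₁ b)
    rwa [show b * α₁ - b * (α₁ - a₆ ^ v') = b * a₆ ^ v' by ring] at h7

end Groth.Agent.H28WeierAlg
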